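import Mathlib.Algebra.Module.CharacterModule
import Mathlib.GroupTheory.Index
import Mathlib.GroupTheory.Exponent
import Mathlib.GroupTheory.Torsion
import Mathlib.GroupTheory.FiniteAbelian.Basic
import Mathlib.LinearAlgebra.FreeModule.PID
import Mathlib.Data.Int.Interval

/-! Abelian groups: characters, finite index subgroups and divisible elements. -/

set_option autoImplicit false

universe u

namespace Groth.Agent.ProComplLib

variable {A : Type u} [AddCommGroup A]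

theorem finite_nsmul_eq_zero_rat_circle (n : ℕ) (hn : 0 < n) :
    {x : ℚ ⧸ AddSubgroup.zmultiples (1 : ℚ) | n • x = 0}.Finite := by
  refine ((Set.finite_Ico (0 : ℤ) n).image
    fun k : ℤ ↦ (QuotientAddGroup.mk ((k : ℚ) / n) : ℚ ⧸ AddSubgroup.zmultiples (1 : ℚ))).subset ?_
  intro x hx
  obtain ⟨q, rfl⟩ := QuotientAddGroup.mk_surjective x
  rw [Set.mem_setOf_eq, ← QuotientAddGroup.mk_nsmul, QuotientAddGroup.eq_zero_iff,
    AddSubgroup.mem_zmultiples_iff] at hx
  obtain ⟨k, hk⟩ := hx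
  have hn' : (n : ℤ) ≠ 0 := by omega
  refine ⟨k % n, ⟨Int.emod_nonneg _ hn', Int.emod_lt_of_pos _ (by omega)⟩, ?_⟩
  rw [QuotientAddGroup.eq, AddSubgroup.mem_zmultiples_iff]
  refine ⟨k / n, ?_⟩
  have hq : q = (k : ℚ) / n := by
    rw [eq_div_iff (by positivity), ← show k • (1 : ℚ) = (k : ℚ) by simp, hk, nsmul_eq_mul, mul_comm]
  have he : ((k % n : ℤ) : ℚ) + (n : ℚ) * ((k / n : ℤ) : ℚ) = k := by
    exact_mod_cast Int.emod_add_mul_ediv k n
  rw [hq, zsmul_eq_mul, mul_one, ← he]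
  field_simp
  ring

/-- If `A ⧸ S` has bounded exponent, points outside `S` are avoided by finite index subgroups. -/
theorem exists_finiteIndex_not_mem (S : AddSubgroup A) (n : ℕ) (hn : 0 < n)
    (hS : ∀ x : A, n • x ∈ S) (a : A) (ha : a ∉ S) :
    ∃ H : AddSubgroup A, S ≤ H ∧ H.FiniteIndex ∧ a ∉ H := by
  have hne : (QuotientAddGroup.mk a : A ⧸ S) ≠ 0 := by simpa [QuotientAddGroup.eq_zero_iff]
  obtain ⟨c, hc⟩ := CharacterModule.exists_character_apply_ne_zero_of_ne_zero hne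
  let φ : A →+ AddCircle (1 : ℚ) := c.comp (QuotientAddGroup.mk' S)
  refine ⟨φ.ker, fun x hx ↦ ?_, ?_, hc⟩
  · change c (QuotientAddGroup.mk x : A ⧸ S) = 0
    rw [(QuotientAddGroup.eq_zero_iff x).mpr hx]
    exact map_zero c
  · have : Finite φ.range := by
      refine ((finite_nsmul_eq_zero_rat_circle n hn).subset ?_).to_subtype
      rintro _ ⟨x, rfl⟩
      change n • φ x = 0
      rw [← map_nsmul]
      change c (QuotientAddGroup.mk (n • x) : A ⧸ S) = 0
      rw [(QuotientAddGroup.eq_zero_iff _).mpr (hS x)]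
      exact map_zero c
    exact AddSubgroup.finiteIndex_ker φ

theorem index_nsmul_mem (H : AddSubgroup A) [H.FiniteIndex] :
    ∃ n : ℕ, 0 < n ∧ ∀ x : A, n • x ∈ H :=
  ⟨H.index, Nat.pos_of_ne_zero AddSubgroup.FiniteIndex.index_ne_zero, fun x ↦ by
    rw [← QuotientAddGroup.eq_zero_iff, QuotientAddGroup.mk_nsmul, AddSubgroup.index,
      card_nsmul_eq_zero']⟩

/-- Finite index subgroups extend from `A'` to `A`. -/
theorem exists_finiteIndex_inf_le (A' K : AddSubgroup A) (hK : K ≤ A') (m : ℕ) (hm : 0 < m)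
    (hKm : ∀ x ∈ A', m • x ∈ K) (hfin : (K.addSubgroupOf A').FiniteIndex) (N : ℕ) (hN : 0 < N)
    (htors : ∀ x : A, ∀ j : ℕ, 0 < j → j • x ∈ A' → N • x ∈ A') :
    ∃ H : AddSubgroup A, H.FiniteIndex ∧ H ⊓ A' ≤ K := by
  classical
  let S : AddSubgroup A := (nsmulAddMonoidHom (m * N) : A →+ A).range ⊔ K
  have hS : ∀ x : A, (m * N) • x ∈ S := fun x ↦ AddSubgroup.mem_sup_left ⟨x, rfl⟩
  have hSA : ∀ x ∈ A', x ∈ S → x ∈ K := fun x hx hxS ↦ by
    obtain ⟨_, ⟨y, rfl⟩, k, hk, rfl⟩ := AddSubgroup.mem_sup.mp hxS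
    have h1 : (m * N) • y ∈ A' := by simpa using sub_mem hx (hK hk)
    refine add_mem ?_ hk
    change (m * N) • y ∈ K
    rw [mul_smul]
    exact hKm _ (htors y (m * N) (Nat.mul_pos hm hN) h1)
  have : Finite (A' ⧸ K.addSubgroupOf A') := AddSubgroup.finite_quotient_of_finiteIndex
  have h : ∀ c : A' ⧸ K.addSubgroupOf A', ∃ H : AddSubgroup A, S ≤ H ∧ H.FiniteIndex ∧
      (c ≠ 0 → c.out.1 ∉ H) := fun c ↦ by
    by_cases hc : c = 0
    · exact ⟨⊤, le_top, inferInstance, fun h ↦ (h hc).elim⟩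
    obtain ⟨H, h1, h2, h3⟩ := exists_finiteIndex_not_mem S (m * N) (Nat.mul_pos hm hN) hS c.out.1
      fun hmem ↦ hc (by
        rw [← QuotientAddGroup.out_eq' c, QuotientAddGroup.eq_zero_iff, AddSubgroup.mem_addSubgroupOf]
        exact hSA _ c.out.2 hmem)
    exact ⟨H, h1, h2, fun _ ↦ h3⟩
  choose H hSH hH hcH using h
  refine ⟨⨅ c, H c, AddSubgroup.finiteIndex_iInf hH, fun x hx ↦ ?_⟩
  by_contra hxK
  let c : A' ⧸ K.addSubgroupOf A' := QuotientAddGroup.mk ⟨x, hx.2⟩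
  have hc : c ≠ 0 := fun h0 ↦ hxK (by simpa [c, AddSubgroup.mem_addSubgroupOf] using h0)
  refine hcH c hc ?_
  have h1 : -c.out + ⟨x, hx.2⟩ ∈ K.addSubgroupOf A' :=
    QuotientAddGroup.eq.mp (QuotientAddGroup.out_eq' c)
  rw [AddSubgroup.mem_addSubgroupOf] at h1
  have h2 : (-c.out.1 + x) ∈ H c := hSH c (AddSubgroup.mem_sup_right (by simpa using h1))
  have h3 := sub_mem (AddSubgroup.mem_iInf.mp hx.1 c) h2
  simpa using h3

theorem finite_of_fg_of_forall_nsmul [AddGroup.FG A] {n : ℕ} (hn : 0 < n)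
    (h : ∀ x : A, n • x = 0) : Finite A :=
  have : Module.Finite ℤ A := Module.Finite.iff_addGroup_fg.mpr inferInstance
  Module.finite_of_fg_torsion A fun x ↦ ⟨⟨(n : ℤ),
    mem_nonZeroDivisors_of_ne_zero (by exact_mod_cast hn.ne')⟩, by simp [h x]⟩

/-- A subgroup containing `n • A` in a finitely generated group has finite index. -/
theorem finiteIndex_of_nsmul_mem [AddGroup.FG A] (H : AddSubgroup A) {n : ℕ} (hn : 0 < n)
    (h : ∀ x : A, n • x ∈ H) : H.FiniteIndex := by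
  have : AddGroup.FG (A ⧸ H) :=
    AddGroup.fg_of_surjective (QuotientAddGroup.mk'_surjective H)
  have : Finite (A ⧸ H) := finite_of_fg_of_forall_nsmul hn fun x ↦ by
    obtain ⟨x, rfl⟩ := QuotientAddGroup.mk_surjective x
    rw [← QuotientAddGroup.mk_nsmul]
    exact (QuotientAddGroup.eq_zero_iff _).mpr (h x)
  exact AddSubgroup.finiteIndex_of_finite_quotient

theorem exists_exponent_torsion [AddGroup.FG A] :
    ∃ N : ℕ, 0 < N ∧ ∀ x : A, ∀ j : ℕ, 0 < j → j • x = 0 → N • x = 0 := by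
  have : Module.Finite ℤ A := Module.Finite.iff_addGroup_fg.mpr inferInstance
  have : Finite (Submodule.torsion ℤ A) := Module.finite_of_fg_torsion _ Submodule.torsion_isTorsion
  refine ⟨Nat.card (Submodule.torsion ℤ A), Nat.card_pos, fun x j hj hx ↦ ?_⟩
  have hmem : x ∈ Submodule.torsion ℤ A := ⟨⟨(j : ℤ),
    mem_nonZeroDivisors_of_ne_zero (by exact_mod_cast hj.ne')⟩, by simpa [Submonoid.smul_def] using hx⟩
  simpa using congr(Subtype.val $(card_nsmul_eq_zero' (x := (⟨x, hmem⟩ : Submodule.torsion ℤ A))))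

/-- A finitely generated abelian group has no nonzero divisible element. -/
theorem exists_not_divisible_of_fg [AddGroup.FG A] {a : A} (ha : a ≠ 0) :
    ∃ n : ℕ, 0 < n ∧ ∀ y : A, n • y ≠ a := by
  have : Module.Finite ℤ A := Module.Finite.iff_addGroup_fg.mpr inferInstance
  by_contra! h
  obtain ⟨N, hN, hN'⟩ := exists_exponent_torsion (A := A)
  by_cases hat : a ∈ Submodule.torsion ℤ A
  · obtain ⟨y, hy⟩ := h N hN
    obtain ⟨⟨c, hc⟩, hca⟩ := hat
    refine ha (hy ▸ hN' y (c.natAbs * N) (Nat.mul_pos (Int.natAbs_pos.mpr (nonZeroDivisors.ne_zero hc)) hN) ?_)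
    rw [mul_smul, hy]
    have hca' : c • a = 0 := hca
    exact (Int.natAbs_eq c).elim (fun e ↦ by rw [e, natCast_zsmul] at hca'; exact hca')
      fun e ↦ by rw [e, neg_smul, natCast_zsmul, neg_eq_zero] at hca'; exact hca'
  · let T := Submodule.torsion ℤ A
    have : Module.Free ℤ (A ⧸ T) := Module.free_of_finite_type_torsion_free'
    let b := Module.Free.chooseBasis ℤ (A ⧸ T)
    have hne : b.repr (T.mkQ a) ≠ 0 := by
      simpa [T] using hat
    obtain ⟨i, hi⟩ := Finsupp.ne_iff.mp hne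
    obtain ⟨y, hy⟩ := h ((b.repr (T.mkQ a) i).natAbs + 1) (by omega)
    have h1 : b.repr (T.mkQ a) i =
        ((b.repr (T.mkQ a) i).natAbs + 1 : ℕ) * b.repr (T.mkQ y) i := by
      conv_lhs => rw [← hy]
      rw [map_nsmul, map_nsmul, Finsupp.smul_apply, nsmul_eq_mul]
    have h2 := congr(Int.natAbs $h1)
    rw [Int.natAbs_mul, Int.natAbs_natCast] at h2
    simp only [Finsupp.coe_zero, Pi.zero_apply] at hi
    have : 0 < (b.repr (T.mkQ a) i).natAbs := Int.natAbs_pos.mpr hi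
    rcases Nat.eq_zero_or_pos (b.repr (T.mkQ y) i).natAbs with h0 | h0
    · rw [h0, mul_zero] at h2; omega
    · have := Nat.le_mul_of_pos_right ((b.repr (T.mkQ a) i).natAbs + 1) h0
      omega

end Groth.Agent.ProComplLib
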