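import Groth.Agent.ProComplLib.Abelian
import Groth.Prelude.Def_W4c61motalbdualityCompl
import Mathlib.Topology.Algebra.Group.Quotient
import Mathlib.Topology.Separation.Profinite
import Mathlib.Topology.Algebra.OpenSubgroup

/-! Completions along open subgroups of finite index; characters with open kernel. -/

set_option autoImplicit false

open scoped Pointwise Topology
open W4c61motalbduality

universe u v w

namespace Groth.Agent.ProComplLib

variable {A : Type u} {B : Type v} {C : Type w}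
  [AddCommGroup A] [TopologicalSpace A] [IsTopologicalAddGroup A]
  [AddCommGroup B] [TopologicalSpace B] [IsTopologicalAddGroup B]
  [AddCommGroup C] [TopologicalSpace C] [IsTopologicalAddGroup C]

/-- van Dantzig. -/
theorem exists_open_addSubgroup_subset [T2Space B] [LocallyCompactSpace B]
    [TotallyDisconnectedSpace B] {W : Set B} (hW : W ∈ 𝓝 (0 : B)) :
    ∃ V : AddSubgroup B, IsOpen (V : Set B) ∧ IsCompact (V : Set B) ∧ (V : Set B) ⊆ W := by
  obtain ⟨K, hK, hKW, hKc⟩ := local_compact_nhds hW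
  obtain ⟨C, hC, h0, hCK⟩ := loc_compact_Haus_tot_disc_of_zero_dim.exists_subset_of_mem_open
    (mem_interior_iff_mem_nhds.mpr hK) isOpen_interior
  have hCc : IsCompact C := hKc.of_isClosed_subset hC.1 (hCK.trans interior_subset)
  obtain ⟨U, hU, hUC⟩ := compact_open_separated_add_right hCc hC.2 subset_rfl
  let V : AddSubgroup B :=
    { carrier := {x | ∀ c ∈ C, c + x ∈ C ∧ c - x ∈ C}
      zero_mem' := fun c hc ↦ by simp [hc]
      add_mem' := fun {x y} hx hy c hc ↦
        ⟨by rw [← add_assoc]; exact (hy _ (hx c hc).1).1,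
          by rw [← sub_sub]; exact (hy _ (hx c hc).2).2⟩
      neg_mem' := fun {x} hx c hc ↦
        ⟨by rw [← sub_eq_add_neg]; exact (hx c hc).2, by rw [sub_neg_eq_add]; exact (hx c hc).1⟩ }
  have hV : IsOpen (V : Set B) := by
    refine V.isOpen_of_mem_nhds (g := 0) (Filter.mem_of_superset
      (Filter.inter_mem hU (neg_mem_nhds_zero B hU)) fun x hx c hc ↦ ⟨hUC (Set.add_mem_add hc hx.1), ?_⟩)
    rw [sub_eq_add_neg]
    exact hUC (Set.add_mem_add hc hx.2)
  have hVC : (V : Set B) ⊆ C := fun x hx ↦ by simpa using (hx 0 h0).1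
  exact ⟨V, hV, hCc.of_isClosed_subset (AddSubgroup.isClosed_of_isOpen V hV) hVC,
    hVC.trans ((hCK.trans interior_subset).trans hKW)⟩

/-- An open subgroup has finitely generated quotient in a compactly generated group. -/
theorem fg_quotient_of_compactlyGenerated
    (hcg : ∃ K : Set B, IsCompact K ∧ AddSubgroup.closure K = ⊤) (V : AddSubgroup B)
    (hV : IsOpen (V : Set B)) : AddGroup.FG (B ⧸ V) := by
  obtain ⟨K, hK, hKg⟩ := hcg
  have := QuotientAddGroup.discreteTopology hV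
  have hfin : ((QuotientAddGroup.mk' V) '' K).Finite :=
    (hK.image (continuous_quotient_mk' : Continuous (QuotientAddGroup.mk (s := V)))).finite_of_discrete
  refine ⟨⟨hfin.toFinset, ?_⟩⟩
  rw [Set.Finite.coe_toFinset, ← AddMonoidHom.map_closure, hKg, ← AddMonoidHom.range_eq_map]
  exact AddMonoidHom.range_eq_top.mpr (QuotientAddGroup.mk'_surjective V)

theorem finiteIndex_ker_character
    (hcg : ∃ K : Set B, IsCompact K ∧ AddSubgroup.closure K = ⊤)
    (χ : B →+ ℚ ⧸ AddSubgroup.zmultiples (1 : ℚ)) (hχ : IsOpen (χ.ker : Set B)) :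
    χ.ker.FiniteIndex := by
  have := fg_quotient_of_compactlyGenerated hcg χ.ker hχ
  have : Module.Finite ℤ (B ⧸ χ.ker) := Module.Finite.iff_addGroup_fg.mpr inferInstance
  have : Finite (B ⧸ χ.ker) := Module.finite_of_fg_torsion _ fun x ↦ by
    obtain ⟨x, rfl⟩ := QuotientAddGroup.mk_surjective x
    obtain ⟨q, hq⟩ := QuotientAddGroup.mk_surjective (χ x)
    refine ⟨⟨(q.den : ℤ), mem_nonZeroDivisors_of_ne_zero (by exact_mod_cast q.den_nz)⟩, ?_⟩
    rw [Submonoid.mk_smul, natCast_zsmul, ← QuotientAddGroup.mk_nsmul, QuotientAddGroup.eq_zero_iff,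
      AddMonoidHom.mem_ker, map_nsmul, ← hq, ← QuotientAddGroup.mk_nsmul,
      QuotientAddGroup.eq_zero_iff, AddSubgroup.mem_zmultiples_iff]
    exact ⟨q.num, by rw [zsmul_eq_mul, mul_one, nsmul_eq_mul]; exact (Rat.den_mul_eq_num q).symm⟩
  exact AddSubgroup.finiteIndex_of_finite_quotient

theorem exists_finiteIndex_not_mem_of_compactlyGenerated [T2Space B] [LocallyCompactSpace B]
    [TotallyDisconnectedSpace B] (hcg : ∃ K : Set B, IsCompact K ∧ AddSubgroup.closure K = ⊤)
    (b : B) (hb : b ≠ 0) :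
    ∃ B' : AddSubgroup B, IsOpen (B' : Set B) ∧ B'.FiniteIndex ∧ b ∉ B' := by
  obtain ⟨V, hV, -, hVb⟩ := exists_open_addSubgroup_subset (W := {b}ᶜ)
    (isOpen_compl_singleton.mem_nhds hb.symm)
  have := fg_quotient_of_compactlyGenerated hcg V hV
  have hne : (QuotientAddGroup.mk b : B ⧸ V) ≠ 0 := fun h ↦
    hVb ((QuotientAddGroup.eq_zero_iff b).mp h) rfl
  obtain ⟨n, hn, hnb⟩ := exists_not_divisible_of_fg hne
  let R : AddSubgroup (B ⧸ V) := (nsmulAddMonoidHom n : (B ⧸ V) →+ B ⧸ V).range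
  have : R.FiniteIndex := finiteIndex_of_nsmul_mem R hn fun x ↦ ⟨x, rfl⟩
  refine ⟨R.comap (QuotientAddGroup.mk' V), AddSubgroup.isOpen_mono (fun x hx ↦ ?_) hV, ⟨?_⟩,
    fun h ↦ ?_⟩
  · change (QuotientAddGroup.mk x : B ⧸ V) ∈ R
    rw [(QuotientAddGroup.eq_zero_iff x).mpr hx]
    exact zero_mem R
  · rw [AddSubgroup.index_comap_of_surjective _ (QuotientAddGroup.mk'_surjective V)]
    exact AddSubgroup.FiniteIndex.index_ne_zero
  · obtain ⟨y, hy⟩ := h
    exact hnb y hy

/-- Open subgroups of `A` contain the preimage of an open subgroup of `B`. -/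
theorem exists_open_comap_le [T2Space B] [LocallyCompactSpace B] [TotallyDisconnectedSpace B]
    (i : A →+ B) (hind : Topology.IsInducing i) (U : AddSubgroup A) (hU : IsOpen (U : Set A)) :
    ∃ V : AddSubgroup B, IsOpen (V : Set B) ∧ V.comap i ≤ U := by
  obtain ⟨W, hW, hWU⟩ := hind.isOpen_iff.mp hU
  obtain ⟨V, hV, -, hVW⟩ := exists_open_addSubgroup_subset
    (hW.mem_nhds (show (0 : B) ∈ W from map_zero i ▸ hWU.ge U.zero_mem))
  exact ⟨V, hV, fun x hx ↦ hWU.le (hVW hx)⟩

theorem exists_character_extension (i : A →+ B) (V : AddSubgroup B) (hV : IsOpen (V : Set B))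
    (χ : A →+ ℚ ⧸ AddSubgroup.zmultiples (1 : ℚ)) (h : V.comap i ≤ χ.ker) :
    ∃ ψ : B →+ ℚ ⧸ AddSubgroup.zmultiples (1 : ℚ), IsOpen (ψ.ker : Set B) ∧ ψ.comp i = χ := by
  let j : A ⧸ V.comap i →+ B ⧸ V := QuotientAddGroup.map _ _ i le_rfl
  have hj : Function.Injective j := (injective_iff_map_eq_zero _).mpr fun x hx ↦ by
    obtain ⟨x, rfl⟩ := QuotientAddGroup.mk_surjective x
    rw [QuotientAddGroup.map_mk, QuotientAddGroup.eq_zero_iff] at hx
    exact (QuotientAddGroup.eq_zero_iff x).mpr hx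
  obtain ⟨ψ, hψ⟩ := CharacterModule.dual_surjective_of_injective j.toIntLinearMap hj
    (QuotientAddGroup.lift _ χ h : A ⧸ V.comap i →+ AddCircle (1 : ℚ))
  let ψ' : (B ⧸ V) →+ ℚ ⧸ AddSubgroup.zmultiples (1 : ℚ) := ψ
  refine ⟨ψ'.comp (QuotientAddGroup.mk' V), AddSubgroup.isOpen_mono (fun x hx ↦ ?_) hV, ?_⟩
  · change ψ' (QuotientAddGroup.mk x) = 0
    rw [(QuotientAddGroup.eq_zero_iff x).mpr hx, map_zero]
  · ext a
    exact DFunLike.congr_fun hψ (QuotientAddGroup.mk a)

omit [IsTopologicalAddGroup B] in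
theorem exists_factor_character (p : B →+ C) (hpo : IsOpenMap p) (hps : Function.Surjective p)
    (χ : B →+ ℚ ⧸ AddSubgroup.zmultiples (1 : ℚ)) (hχ : IsOpen (χ.ker : Set B)) (h : p.ker ≤ χ.ker) :
    ∃ φ : C →+ ℚ ⧸ AddSubgroup.zmultiples (1 : ℚ), IsOpen (φ.ker : Set C) ∧ φ.comp p = χ := by
  let φ := AddMonoidHom.liftOfSurjective p hps ⟨χ, h⟩
  have hφ : φ.comp p = χ := AddMonoidHom.liftOfRightInverse_comp p _ _ ⟨χ, h⟩
  refine ⟨φ, ?_, hφ⟩
  have : (φ.ker : Set C) = p '' (χ.ker : Set B) := by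
    ext c
    obtain ⟨b, rfl⟩ := hps c
    have hb : φ (p b) = χ b := DFunLike.congr_fun hφ b
    constructor
    · intro hc
      exact ⟨b, hb.symm.trans hc, rfl⟩
    · rintro ⟨b', hb', he⟩
      rw [← he]
      exact (DFunLike.congr_fun hφ b').trans hb'
  rw [this]
  exact hpo _ hχ

section FI

theorem map_apply (f : A →+ B) (hf : Continuous f) (x : FICompl A) (V : OpenFI B) {a : A}
    (ha : QuotientAddGroup.mk a = x.1 (V.comap f hf)) :
    (FICompl.map f hf x).1 V = QuotientAddGroup.mk (f a) := by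
  change QuotientAddGroup.map _ _ f _ (x.1 (V.comap f hf)) = _
  rw [← ha]
  rfl

/-- The image of the completion map: componentwise membership suffices. -/
theorem mem_range_map_iff (f : A →+ B) (hf : Continuous f) (y : FICompl B) :
    y ∈ (FICompl.map f hf).range ↔ ∀ V : OpenFI B, ∃ a : A, QuotientAddGroup.mk (f a) = y.1 V := by
  refine ⟨?_, fun h ↦ ?_⟩
  · rintro ⟨x, rfl⟩ V
    obtain ⟨a, ha⟩ := QuotientAddGroup.mk_surjective (x.1 (V.comap f hf))
    exact ⟨a, (map_apply f hf x V ha).symm⟩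
  classical
  have hd : ∀ U : OpenFI A, DiscreteTopology (A ⧸ U.toAddSubgroup) := fun U ↦
    QuotientAddGroup.discreteTopology U.isOpen'
  have : ∀ U : OpenFI A, Finite (A ⧸ U.toAddSubgroup) := fun U ↦
    haveI := U.finiteIndex'
    AddSubgroup.finite_quotient_of_finiteIndex
  let Z : OpenFI B → Set ((U : OpenFI A) → A ⧸ U.toAddSubgroup) := fun V ↦
    {z | z ∈ FICompl A ∧ QuotientAddGroup.map (V.comap f hf).toAddSubgroup V.toAddSubgroup f
      (V.comap_le f) (z (V.comap f hf)) = y.1 V}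
  have hcl : IsClosed (FICompl A : Set ((U : OpenFI A) → A ⧸ U.toAddSubgroup)) := by
    have : (FICompl A : Set ((U : OpenFI A) → A ⧸ U.toAddSubgroup)) =
        ⋂ (U : OpenFI A) (V : OpenFI A) (h : U.toAddSubgroup ≤ V.toAddSubgroup),
          {x | QuotientAddGroup.map U.toAddSubgroup V.toAddSubgroup (AddMonoidHom.id A) h (x U) = x V} := by
      ext x
      simp only [Set.mem_iInter]
      rfl
    rw [this]
    exact isClosed_iInter fun U ↦ isClosed_iInter fun V ↦ isClosed_iInter fun h ↦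
      isClosed_eq (continuous_of_discreteTopology.comp (continuous_apply U)) (continuous_apply V)
  have hdB : ∀ U : OpenFI B, DiscreteTopology (B ⧸ U.toAddSubgroup) := fun U ↦
    QuotientAddGroup.discreteTopology U.isOpen'
  have hZc : ∀ V, IsClosed (Z V) := fun V ↦ hcl.inter
    (isClosed_eq (continuous_of_discreteTopology.comp (continuous_apply (V.comap f hf))) continuous_const)
  obtain ⟨z, -, hz⟩ := isCompact_univ.inter_iInter_nonempty Z hZc fun t ↦ by
    let V₀ : OpenFI B :=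
      { toAddSubgroup := ⨅ V : t, V.1.toAddSubgroup
        isOpen' := by
          rw [AddSubgroup.coe_iInf]
          exact isOpen_iInter_of_finite fun V : t ↦ V.1.isOpen'
        finiteIndex' := AddSubgroup.finiteIndex_iInf fun V : t ↦ V.1.finiteIndex' }
    obtain ⟨a, ha⟩ := h V₀
    refine ⟨(toFICompl A a).1, Set.mem_univ _, Set.mem_iInter₂.mpr fun V hV ↦ ⟨(toFICompl A a).2, ?_⟩⟩
    rw [← y.2 V₀ V (iInf_le (fun V : t ↦ V.1.toAddSubgroup) ⟨V, hV⟩), ← ha]
    rfl
  refine ⟨⟨z, ?_⟩, Subtype.ext (funext fun V ↦ (Set.mem_iInter.mp hz V).2)⟩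
  let top : OpenFI B := ⟨⊤, isOpen_univ, inferInstance⟩
  exact (Set.mem_iInter.mp hz top).1

theorem map_rightExact (i : A →+ B) (hi : Continuous i) (p : B →+ C) (hp : Continuous p)
    (hpo : IsOpenMap p) (hps : Function.Surjective p) (hex : p.ker = i.range) :
    Function.Surjective (FICompl.map p hp) ∧ (FICompl.map p hp).ker = (FICompl.map i hi).range := by
  refine ⟨fun y ↦ (mem_range_map_iff p hp y).mpr fun V ↦ ?_, le_antisymm (fun x hx ↦ ?_) ?_⟩
  · obtain ⟨c, hc⟩ := QuotientAddGroup.mk_surjective (y.1 V)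
    obtain ⟨b, rfl⟩ := hps c
    exact ⟨b, hc⟩
  · rw [mem_range_map_iff]
    intro V
    have hVle : V.toAddSubgroup ≤ (V.toAddSubgroup.map p).comap p := AddSubgroup.le_comap_map _ _
    let pV : OpenFI C :=
      { toAddSubgroup := V.toAddSubgroup.map p
        isOpen' := by rw [AddSubgroup.coe_map]; exact hpo _ V.isOpen'
        finiteIndex' := by
          have := V.finiteIndex'
          refine ⟨?_⟩
          rw [← AddSubgroup.index_comap_of_surjective _ hps]
          exact (AddSubgroup.finiteIndex_of_le hVle).index_ne_zero }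
    obtain ⟨b, hb⟩ := QuotientAddGroup.mk_surjective (x.1 V)
    have h1 : QuotientAddGroup.mk b = x.1 (pV.comap p hp) := by
      rw [← x.2 V (pV.comap p hp) hVle, ← hb]
      rfl
    have h2 := (map_apply p hp x pV h1).symm.trans
      (congrFun (congrArg Subtype.val (AddMonoidHom.mem_ker.mp hx)) pV)
    obtain ⟨v, hv, hv'⟩ := (QuotientAddGroup.eq_zero_iff (p b)).mp h2
    obtain ⟨a, ha⟩ : b - v ∈ i.range := hex ▸ by simp [hv']
    exact ⟨a, by rw [← hb, ha, QuotientAddGroup.eq]; simpa using hv⟩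
  · rintro _ ⟨x, rfl⟩
    refine Subtype.ext (funext fun V ↦ ?_)
    obtain ⟨a, ha⟩ := QuotientAddGroup.mk_surjective (x.1 ((V.comap p hp).comap i hi))
    rw [map_apply p hp _ V (map_apply i hi x (V.comap p hp) ha).symm]
    have : p (i a) = 0 := AddMonoidHom.mem_ker.mp (hex ▸ ⟨a, rfl⟩)
    rw [this]
    rfl

theorem map_injective [T2Space B] [LocallyCompactSpace B] [TotallyDisconnectedSpace B]
    (hcg : ∃ K : Set B, IsCompact K ∧ AddSubgroup.closure K = ⊤)
    (i : A →+ B) (hi : Continuous i) (hind : Topology.IsInducing i) :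
    Function.Injective (FICompl.map i hi) := by
  refine (injective_iff_map_eq_zero _).mpr fun x hx ↦ Subtype.ext (funext fun W ↦ ?_)
  obtain ⟨V₀, hV₀, hV₀W⟩ := exists_open_comap_le i hind W.toAddSubgroup W.isOpen'
  have := fg_quotient_of_compactlyGenerated hcg V₀ hV₀
  have := W.finiteIndex'
  obtain ⟨m, hm, hmW⟩ := index_nsmul_mem W.toAddSubgroup
  let π := QuotientAddGroup.mk' V₀
  let F : AddSubgroup (B ⧸ V₀) := (π.comp i).range
  let F' : AddSubgroup (B ⧸ V₀) := W.toAddSubgroup.map (π.comp i)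
  have hmF : ∀ f ∈ F, m • f ∈ F' := by
    rintro _ ⟨a, rfl⟩
    exact ⟨m • a, hmW a, map_nsmul _ _ _⟩
  have : AddGroup.FG ((B ⧸ V₀) ⧸ F) := AddGroup.fg_of_surjective (QuotientAddGroup.mk'_surjective F)
  obtain ⟨N, hN, htors⟩ := exists_exponent_torsion (A := (B ⧸ V₀) ⧸ F)
  let H : AddSubgroup (B ⧸ V₀) := (nsmulAddMonoidHom (m * N) : (B ⧸ V₀) →+ _).range ⊔ F'
  have hH : H.FiniteIndex := finiteIndex_of_nsmul_mem H (Nat.mul_pos hm hN)
    fun q ↦ AddSubgroup.mem_sup_left ⟨q, rfl⟩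
  let V : OpenFI B :=
    { toAddSubgroup := H.comap π
      isOpen' := AddSubgroup.isOpen_mono (fun b hb ↦ by
        change (QuotientAddGroup.mk b : B ⧸ V₀) ∈ H
        rw [(QuotientAddGroup.eq_zero_iff b).mpr hb]
        exact zero_mem H) hV₀
      finiteIndex' := ⟨by
        rw [AddSubgroup.index_comap_of_surjective _ (QuotientAddGroup.mk'_surjective V₀)]
        exact hH.index_ne_zero⟩ }
  have hle : (V.comap i hi).toAddSubgroup ≤ W.toAddSubgroup := fun a ha ↦ by
    obtain ⟨_, ⟨q, rfl⟩, f', hf', he⟩ := AddSubgroup.mem_sup.mp (show π (i a) ∈ H from ha)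
    have hf'F : f' ∈ F := by obtain ⟨w, -, rfl⟩ := hf'; exact ⟨w, rfl⟩
    have h1 : (m * N) • q ∈ F := by
      rw [show (m * N) • q = π (i a) - f' from eq_sub_of_add_eq he]
      exact sub_mem ⟨a, rfl⟩ hf'F
    have h2 := htors (QuotientAddGroup.mk q) (m * N) (Nat.mul_pos hm hN)
      (by rw [← QuotientAddGroup.mk_nsmul]; exact (QuotientAddGroup.eq_zero_iff _).mpr h1)
    rw [← QuotientAddGroup.mk_nsmul, QuotientAddGroup.eq_zero_iff] at h2
    have h3 : π (i a) ∈ F' := by
      rw [← he]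
      refine add_mem ?_ hf'
      change (m * N) • q ∈ F'
      rw [mul_smul]
      exact hmF _ h2
    obtain ⟨w, hw, hwa⟩ := h3
    have : a - w ∈ W.toAddSubgroup := hV₀W (by
      change i (a - w) ∈ V₀
      rw [← QuotientAddGroup.eq_zero_iff, map_sub, QuotientAddGroup.mk_sub]
      exact sub_eq_zero.mpr hwa.symm)
    simpa using add_mem this hw
  obtain ⟨a, ha⟩ := QuotientAddGroup.mk_surjective (x.1 (V.comap i hi))
  have h0 := (map_apply i hi x V ha).symm.trans (congrFun (congrArg Subtype.val hx) V)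
  change x.1 W = 0
  rw [← x.2 _ W hle, ← ha]
  exact (QuotientAddGroup.eq_zero_iff a).mpr (hle (show a ∈ (V.comap i hi).toAddSubgroup from
    (QuotientAddGroup.eq_zero_iff (i a)).mp h0))

end FI

end Groth.Agent.ProComplLib
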