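import Groth.Agent.ProComplLib.Basic
import Mathlib.Data.ZMod.Basic

/-! Cocyclic groups and quotients of profinite groups. -/

set_option autoImplicit false

open DirectSum

universe u

namespace Groth.Agent.ProComplLib

variable {A : Type u} [AddCommGroup A]

theorem finite_nsmul_eq_zero_of_cocyclic (hA : AddMonoid.exponent A ≠ 0) (a : A) (ha : a ≠ 0)
    (h : ∀ B : AddSubgroup A, B ≠ ⊥ → a ∈ B) (n : ℕ) (hn : n ≠ 0) :
    {x : A | n • x = 0}.Finite := by
  classical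
  have hfin : ∀ x : A, IsOfFinAddOrder x := fun x ↦ isOfFinAddOrder_iff_nsmul_eq_zero.mpr
    ⟨_, Nat.pos_of_ne_zero hA, AddMonoid.exponent_nsmul_eq_zero x⟩
  induction n using Nat.recOnMul with
  | zero => exact absurd rfl hn
  | one => simp
  | prime p hp =>
    refine ((hfin a).finite_multiples.union (Set.finite_singleton 0)).subset fun x hx ↦ ?_
    by_cases hx0 : x = 0
    · exact Or.inr hx0
    left
    obtain ⟨k, hk⟩ : ∃ k : ℕ, k • x = a :=
      (hfin x).mem_multiples_iff_mem_zmultiples.mpr (h _ (by simpa using hx0))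
    have : ¬ p ∣ k := by
      rintro ⟨c, rfl⟩
      refine ha (hk ▸ ?_)
      rw [mul_comm, mul_smul, show p • x = 0 from hx, nsmul_zero]
    obtain ⟨l, hl⟩ : ∃ l, k * l ≡ 1 [MOD p] := by
      have hg : k.gcd p = 1 := (hp.coprime_iff_not_dvd.mpr this).symm
      obtain ⟨l, -, hl⟩ := Nat.exists_mul_mod_eq_one_of_coprime hg hp.one_lt
      exact ⟨l, hl.trans (Nat.mod_eq_of_lt hp.one_lt).symm⟩
    refine ⟨l, ?_⟩
    change l • a = x
    rw [← hk, ← mul_smul, mul_comm, ← Nat.div_add_mod (k * l) p, show k * l % p = 1 from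
      (show k * l % p = 1 % p from hl).trans (Nat.mod_eq_of_lt hp.one_lt), add_smul, mul_comm p, mul_smul, show p • x = 0 from hx,
      nsmul_zero, zero_add, one_smul]
  | mul m k ihm ihk =>
    obtain ⟨hm, hk⟩ := mul_ne_zero_iff.mp hn
    have : {x : A | (m * k) • x = 0} ⊆ ⋃ y ∈ {y : A | k • y = 0}, {x | m • x = y} := by
      intro x hx
      simp only [Set.mem_iUnion]
      exact ⟨m • x, show k • m • x = 0 by rw [← mul_smul, mul_comm]; exact hx, rfl⟩
    refine ((ihk hk).biUnion fun y _ ↦ ?_).subset this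
    rcases Set.eq_empty_or_nonempty {x : A | m • x = y} with he | ⟨x₀, hx₀⟩
    · simp [he]
    · refine ((ihm hm).image (x₀ + ·)).subset fun x hx ↦ ⟨x - x₀, ?_, add_sub_cancel _ _⟩
      change m • (x - x₀) = 0
      rw [nsmul_sub, show m • x = y from hx, show m • x₀ = y from hx₀, sub_self]

theorem finite_of_cocyclic (hA : AddMonoid.exponent A ≠ 0) (a : A) (ha : a ≠ 0)
    (h : ∀ B : AddSubgroup A, B ≠ ⊥ → a ∈ B) : Finite A := by
  have := finite_nsmul_eq_zero_of_cocyclic hA a ha h _ hA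
  refine Set.finite_univ_iff.mp (this.subset fun x _ ↦ AddMonoid.exponent_nsmul_eq_zero x)

theorem exists_addEquiv_zmod_primePow [Finite A] (a : A) (ha : a ≠ 0)
    (h : ∀ B : AddSubgroup A, B ≠ ⊥ → a ∈ B) :
    ∃ p n : ℕ, p.Prime ∧ Nonempty (A ≃+ ZMod (p ^ n)) := by
  classical
  obtain ⟨ι, _, p, hp, e, ⟨f⟩⟩ := AddCommGroup.equiv_directSum_zmod_of_finite A
  let φ : ∀ i, ZMod (p i ^ e i) →+ A := fun i ↦ f.symm.toAddMonoidHom.comp
    (DirectSum.of (fun i ↦ ZMod (p i ^ e i)) i)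
  have hφ : ∀ i, Function.Injective (φ i) := fun i ↦ f.symm.injective.comp (DirectSum.of_injective i)
  have hmem : ∀ i, (φ i).range ≠ ⊥ → ∀ j, j ≠ i → (f a) j = 0 := fun i hi j hj ↦ by
    obtain ⟨c, hc⟩ := h _ hi
    rw [← hc]
    simpa [φ] using DirectSum.of_eq_of_ne (β := fun i ↦ ZMod (p i ^ e i)) i j c hj
  obtain ⟨i, hi⟩ : ∃ i, (f a) i ≠ 0 := by
    by_contra! hz
    exact ha (f.injective ((DFinsupp.ext fun i ↦ hz i).trans (map_zero f).symm))
  have htriv : ∀ j, j ≠ i → ∀ c : ZMod (p j ^ e j), c = 0 := fun j hj c ↦ by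
    by_contra hc
    exact hi (hmem j (fun hb ↦ hc (hφ j (((AddSubgroup.eq_bot_iff_forall _).mp hb _ ⟨c, rfl⟩).trans
      (map_zero _).symm))) i hj.symm)
  refine ⟨p i, e i, hp i, ⟨(AddEquiv.ofBijective (φ i) ⟨hφ i, fun x ↦ ⟨(f x) i, ?_⟩⟩).symm⟩⟩
  refine f.injective (DFinsupp.ext fun j ↦ ?_)
  rcases eq_or_ne j i with rfl | hj
  · simp [φ]
  · exact (htriv j hj _).trans (htriv j hj _).symm

theorem exists_open_finiteIndex_not_mem_iff [TopologicalSpace A] [IsTopologicalAddGroup A]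
    (hn : ∀ n : ℕ, 0 < n → IsOpen (Set.range (fun x : A => n • x))) (a : A) :
    (∃ B : AddSubgroup A, IsOpen (B : Set A) ∧ B.FiniteIndex ∧ a ∉ B) ↔
      ¬ (∀ n : ℕ, 0 < n → ∃ b : A, n • b = a) := by
  constructor
  · rintro ⟨B, -, hB, haB⟩ h
    obtain ⟨n, hn, hnB⟩ := index_nsmul_mem B
    obtain ⟨b, rfl⟩ := h n hn
    exact haB (hnB b)
  · intro h
    push Not at h
    obtain ⟨n, hn0, hna⟩ := h
    obtain ⟨H, hSH, hH, haH⟩ := exists_finiteIndex_not_mem
      (nsmulAddMonoidHom n : A →+ A).range n hn0 (fun x ↦ ⟨x, rfl⟩) a fun ⟨b, hb⟩ ↦ hna b hb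
    exact ⟨H, AddSubgroup.isOpen_mono hSH (hn n hn0), hH, haH⟩

theorem divisible_eq_zero_of_extension {A' A'' : Type u} [AddCommGroup A'] [AddCommGroup A'']
    (f : A' →+ A) (g : A →+ A'') (hf : Function.Injective f) (hfg : g.ker = f.range)
    (h' : ∀ x : A', (∀ n : ℕ, 0 < n → ∃ y : A', n • y = x) → x = 0)
    (h'' : ∀ x : A'', (∀ n : ℕ, 0 < n → ∃ y : A'', n • y = x) → x = 0)
    (htors : ∃ N : ℕ, 0 < N ∧ ∀ x : A'', IsOfFinAddOrder x → N • x = 0)
    (x : A) (hx : ∀ n : ℕ, 0 < n → ∃ y : A, n • y = x) : x = 0 := by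
  have hgx : g x = 0 := h'' _ fun n hn ↦ by
    obtain ⟨y, rfl⟩ := hx n hn
    exact ⟨g y, (map_nsmul _ _ _).symm⟩
  obtain ⟨x', rfl⟩ : x ∈ f.range := hfg ▸ hgx
  rw [h' x' fun n hn ↦ ?_, map_zero]
  obtain ⟨N, hN, hN'⟩ := htors
  obtain ⟨y, hy⟩ := hx (n * N) (Nat.mul_pos hn hN)
  obtain ⟨z, hz⟩ : N • y ∈ f.range := by
    rw [← hfg, AddMonoidHom.mem_ker, map_nsmul]
    exact hN' _ (isOfFinAddOrder_iff_nsmul_eq_zero.mpr
      ⟨n * N, Nat.mul_pos hn hN, by rw [← map_nsmul, hy, hgx]⟩)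
  exact ⟨z, hf (by rw [map_nsmul, hz, ← mul_smul, hy])⟩

theorem profinite_quotient [TopologicalSpace A] [IsTopologicalAddGroup A] [CompactSpace A]
    [T2Space A] [TotallyDisconnectedSpace A] (B : AddSubgroup A) (hB : IsCompact (B : Set A)) :
    CompactSpace (A ⧸ B) ∧ T2Space (A ⧸ B) ∧ TotallyDisconnectedSpace (A ⧸ B) := by
  have : IsClosed (B : Set A) := hB.isClosed
  have hT2 : T2Space (A ⧸ B) := inferInstance
  refine ⟨inferInstance, hT2, ?_⟩
  suffices TotallySeparatedSpace (A ⧸ B) from inferInstance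
  refine totallySeparatedSpace_iff_exists_isClopen.mpr fun x y hxy ↦ ?_
  obtain ⟨x, rfl⟩ := QuotientAddGroup.mk_surjective x
  obtain ⟨y, rfl⟩ := QuotientAddGroup.mk_surjective y
  obtain ⟨V, hV, -, hVW⟩ := exists_open_addSubgroup_subset (W := {v : A | -x + y + v ∉ B})
    ((this.isOpen_compl.preimage (continuous_const_add _)).mem_nhds (by
      simpa [← QuotientAddGroup.eq] using hxy))
  let π := QuotientAddGroup.mk' B
  have hπV : IsOpen ((V.map π : AddSubgroup (A ⧸ B)) : Set (A ⧸ B)) := by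
    rw [AddSubgroup.coe_map]
    exact QuotientAddGroup.isOpenMap_coe _ hV
  refine ⟨(fun c ↦ c - (QuotientAddGroup.mk x : A ⧸ B)) ⁻¹' (V.map π : AddSubgroup (A ⧸ B)),
    (IsClopen.preimage ⟨AddSubgroup.isClosed_of_isOpen _ hπV, hπV⟩ (continuous_id.sub continuous_const)),
    by simp only [Set.mem_preimage, sub_self]; exact zero_mem _, fun hc ↦ ?_⟩
  obtain ⟨v, hv, hve⟩ := hc
  refine hVW (neg_mem hv) ?_
  have h1 : (QuotientAddGroup.mk (y - x - v) : A ⧸ B) = 0 := by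
    rw [QuotientAddGroup.mk_sub, QuotientAddGroup.mk_sub]
    exact sub_eq_zero.mpr hve.symm
  have h2 := (QuotientAddGroup.eq_zero_iff _).mp h1
  rwa [show y - x - v = -x + y + -v by abel] at h2

end Groth.Agent.ProComplLib
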