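import Groth.Agent.ProComplLib.Abelian
import Mathlib.Topology.Algebra.Category.ProfiniteGrp.Completion
import Mathlib.Algebra.Group.TypeTags.Finite

/-! Exactness properties of profinite completion of abelian groups. -/

set_option autoImplicit false

open CategoryTheory

universe u

namespace Groth.Agent.ProComplLib

variable {G K : GrpCat.{u}}

theorem pcMap_eta (f : G ⟶ K) (g : G) :
    (ProfiniteGrp.profiniteCompletion.map f).hom (ProfiniteGrp.ProfiniteCompletion.etaFn G g) =
      ProfiniteGrp.ProfiniteCompletion.etaFn K (f g) :=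
  ConcreteCategory.congr_hom
    (ProfiniteGrp.ProfiniteCompletion.lift_eta (f ≫ ProfiniteGrp.ProfiniteCompletion.eta K)) g

theorem pcMap_apply (f : G ⟶ K) (x : ProfiniteGrp.ProfiniteCompletion.completion G)
    (H : FiniteIndexNormalSubgroup K) {g : G}
    (hg : QuotientGroup.mk g = x.1 (H.comap f.hom)) :
    ((ProfiniteGrp.profiniteCompletion.map f).hom x).1 H = (QuotientGroup.mk (f g) : K ⧸ H.toSubgroup) := by
  have hd : DiscreteTopology
      ((ProfiniteGrp.ProfiniteCompletion.diagram G).obj (H.comap f.hom)) := ⟨rfl⟩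
  let q : (ProfiniteGrp.ProfiniteCompletion.diagram G).obj (H.comap f.hom) →
      (ProfiniteGrp.ProfiniteCompletion.diagram K).obj H :=
    fun c ↦ QuotientGroup.map (H.comap f.hom).toSubgroup H.toSubgroup f.hom le_rfl c
  have hq : Continuous q := continuous_of_discreteTopology
  have h : (fun y : ProfiniteGrp.ProfiniteCompletion.completion G ↦
        ((ProfiniteGrp.profiniteCompletion.map f).hom y).1 H) =
      fun y ↦ q (y.1 (H.comap f.hom)) := by
    refine (ProfiniteGrp.ProfiniteCompletion.denseRange (G := G)).equalizer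
      ((continuous_apply H).comp
        (continuous_subtype_val.comp (ProfiniteGrp.profiniteCompletion.map f).hom.continuous_toFun))
      (hq.comp ((continuous_apply (H.comap f.hom)).comp continuous_subtype_val))
      (funext fun g ↦ ?_)
    simp only [Function.comp_apply]
    exact congrFun (congrArg Subtype.val (pcMap_eta f g)) H
  rw [congrFun h x]
  simp only [q]
  rw [← hg]
  rfl

theorem mem_range_pcMap_iff (f : G ⟶ K) (y : ProfiniteGrp.ProfiniteCompletion.completion K) :
    y ∈ (ProfiniteGrp.profiniteCompletion.map f).hom.toMonoidHom.range ↔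
      ∀ H : FiniteIndexNormalSubgroup K, ∃ g : G, QuotientGroup.mk (f g) = y.1 H := by
  refine ⟨?_, fun h ↦ ?_⟩
  · rintro ⟨x, rfl⟩ H
    obtain ⟨g, hg⟩ := QuotientGroup.mk_surjective (x.1 (H.comap f.hom))
    exact ⟨g, (pcMap_apply f x H hg).symm⟩
  classical
  let Z : FiniteIndexNormalSubgroup K → Set (ProfiniteGrp.ProfiniteCompletion.completion G) :=
    fun H ↦ {x | ((ProfiniteGrp.profiniteCompletion.map f).hom x).1 H = y.1 H}
  have hZ : ∀ H, IsClosed (Z H) := fun H ↦ isClosed_eq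
    ((continuous_apply H).comp (continuous_subtype_val.comp (ProfiniteGrp.profiniteCompletion.map f).hom.continuous_toFun))
    continuous_const
  obtain ⟨x, -, hx⟩ := isCompact_univ.inter_iInter_nonempty Z hZ fun t ↦ by
    have : (⨅ H : t, H.1.toSubgroup : Subgroup K).Normal :=
      Subgroup.normal_iInf_normal fun H ↦ inferInstance
    have : (⨅ H : t, H.1.toSubgroup : Subgroup K).FiniteIndex :=
      Subgroup.finiteIndex_iInf fun H ↦ inferInstance
    let H₀ := FiniteIndexNormalSubgroup.ofSubgroup (⨅ H : t, H.1.toSubgroup : Subgroup K)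
    obtain ⟨g, hg⟩ := h H₀
    refine ⟨ProfiniteGrp.ProfiniteCompletion.etaFn G g, Set.mem_univ _,
      Set.mem_iInter₂.mpr fun H hH ↦ ?_⟩
    have hle : H₀ ≤ H := iInf_le (fun H : t ↦ H.1.toSubgroup) ⟨H, hH⟩
    change ((ProfiniteGrp.profiniteCompletion.map f).hom _).1 H = y.1 H
    rw [pcMap_eta, ← y.2 hle.hom, ← hg]
    rfl
  exact ⟨x, Subtype.ext (funext fun H ↦ Set.mem_iInter.mp hx H)⟩

variable {A : Type u} [CommGroup A] (A' : Subgroup A)

theorem pcMap_subtype_injective
    (htors : ∃ N : ℕ, 0 < N ∧ ∀ x : A ⧸ A', IsOfFinOrder x → x ^ N = 1) :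
    Function.Injective (ProfiniteGrp.profiniteCompletion.map (GrpCat.ofHom A'.subtype)).hom := by
  refine (injective_iff_map_eq_one _).mpr fun x hx ↦ Subtype.ext (funext fun W ↦ ?_)
  obtain ⟨N, hN, hN'⟩ := htors
  let W₁ : Subgroup A := W.toSubgroup.map A'.subtype
  have hWA : W₁ ≤ A' := Subgroup.map_subtype_le _
  have hWfin : W.toSubgroup.FiniteIndex := inferInstance
  obtain ⟨H₀, hH₀, hle₀⟩ := exists_finiteIndex_inf_le (A := Additive A) (Subgroup.toAddSubgroup A')
    (Subgroup.toAddSubgroup W₁) hWA W.toSubgroup.index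
    (Nat.pos_of_ne_zero hWfin.index_ne_zero)
    (fun a ha ↦ ⟨(⟨Additive.toMul a, ha⟩ : A') ^ W.toSubgroup.index,
      Subgroup.pow_index_mem _ _, rfl⟩)
    (⟨by
      have h1 : ((Subgroup.toAddSubgroup W₁).addSubgroupOf (Subgroup.toAddSubgroup A')).index =
          (W₁.subgroupOf A').index := rfl
      rw [h1, show W₁.subgroupOf A' = W.toSubgroup from
        Subgroup.comap_map_eq_self_of_injective A'.subtype_injective _]
      exact hWfin.index_ne_zero⟩) N hN
    (fun a j hj ha ↦ (QuotientGroup.eq_one_iff (Additive.toMul a ^ N)).mp (by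
      rw [QuotientGroup.mk_pow]
      refine hN' _ (isOfFinOrder_iff_pow_eq_one.mpr ⟨j, hj, ?_⟩)
      rw [← QuotientGroup.mk_pow]
      exact (QuotientGroup.eq_one_iff _).mpr ha))
  let H₁ : Subgroup A := AddSubgroup.toSubgroup' H₀
  have : H₁.FiniteIndex := ⟨hH₀.index_ne_zero⟩
  let H : FiniteIndexNormalSubgroup (GrpCat.of A) :=
    FiniteIndexNormalSubgroup.ofSubgroup (G := A) H₁
  obtain ⟨g, hg⟩ := QuotientGroup.mk_surjective (x.1 (H.comap (GrpCat.ofHom A'.subtype).hom))
  have h0 := (pcMap_apply (GrpCat.ofHom A'.subtype) x H hg).symm.trans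
    (congrFun (congrArg Subtype.val hx) H)
  have hgH : (g : A) ∈ H₁ := (QuotientGroup.eq_one_iff (N := H₁) (g : A)).mp h0
  have hle : (H.comap (GrpCat.ofHom A'.subtype).hom) ≤ W := by
    intro a ha
    obtain ⟨w, hw, hwa⟩ := hle₀ (show Additive.ofMul (a : A) ∈ H₀ ⊓ Subgroup.toAddSubgroup A' from
      ⟨ha, a.2⟩)
    exact (Subtype.ext hwa : w = a) ▸ hw
  change x.1 W = 1
  rw [← x.2 hle.hom, ← hg]
  exact (QuotientGroup.eq_one_iff (N := W.toSubgroup) g).mpr (hle hgH)

theorem pcMap_rightExact :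
    Function.Surjective (ProfiniteGrp.profiniteCompletion.map (GrpCat.ofHom (QuotientGroup.mk' A'))).hom ∧
      (ProfiniteGrp.profiniteCompletion.map (GrpCat.ofHom (QuotientGroup.mk' A'))).hom.toMonoidHom.ker =
        (ProfiniteGrp.profiniteCompletion.map (GrpCat.ofHom A'.subtype)).hom.toMonoidHom.range := by
  refine ⟨fun y ↦ ?_, le_antisymm (fun x hx ↦ ?_) ?_⟩
  · obtain ⟨x, hx⟩ := (mem_range_pcMap_iff (GrpCat.ofHom (QuotientGroup.mk' A')) y).mpr fun H ↦ by
      obtain ⟨c, hc⟩ := QuotientGroup.mk_surjective (y.1 H)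
      obtain ⟨b, rfl⟩ := QuotientGroup.mk'_surjective A' c
      exact ⟨b, hc⟩
    exact ⟨x, hx⟩
  · refine (mem_range_pcMap_iff (GrpCat.ofHom A'.subtype) x).mpr fun H ↦ ?_
    obtain ⟨b, hb⟩ := QuotientGroup.mk_surjective (x.1 H)
    let π := QuotientGroup.mk' A'
    let Q₁ : Subgroup (A ⧸ A') := Subgroup.map π H.toSubgroup
    have hle₁ : H.toSubgroup ≤ Q₁.comap π := Subgroup.le_comap_map _ _
    have : Q₁.FiniteIndex := ⟨by
      rw [← Subgroup.index_comap_of_surjective _ (QuotientGroup.mk'_surjective A')]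
      exact (Subgroup.finiteIndex_of_le hle₁).index_ne_zero⟩
    let Q : FiniteIndexNormalSubgroup (GrpCat.of (A ⧸ A')) :=
      FiniteIndexNormalSubgroup.ofSubgroup (G := A ⧸ A') Q₁
    have hle : H ≤ Q.comap (GrpCat.ofHom π).hom := hle₁
    have h1 : QuotientGroup.mk b = x.1 (Q.comap (GrpCat.ofHom π).hom) := by
      rw [← x.2 hle.hom, ← hb]
      rfl
    have h2 := (pcMap_apply (GrpCat.ofHom π) x Q h1).symm.trans
      (congrFun (congrArg Subtype.val hx) Q)
    obtain ⟨v, hv, hv'⟩ := (QuotientGroup.eq_one_iff (N := Q₁) (π b)).mp h2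
    have ha : b / v ∈ A' := (QuotientGroup.eq_iff_div_mem).mp hv'.symm
    refine ⟨⟨b / v, ha⟩, ?_⟩
    rw [← hb]
    exact QuotientGroup.eq.mpr (by
      change (b / v)⁻¹ * b ∈ H.toSubgroup
      rwa [inv_div, div_mul_cancel])
  · rintro _ ⟨x, rfl⟩
    refine Subtype.ext (funext fun Q ↦ ?_)
    obtain ⟨a, ha⟩ := QuotientGroup.mk_surjective
      (x.1 ((Q.comap (GrpCat.ofHom (QuotientGroup.mk' A')).hom).comap (GrpCat.ofHom A'.subtype).hom))
    refine (pcMap_apply (GrpCat.ofHom (QuotientGroup.mk' A')) _ Q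
      (g := (a : A)) (pcMap_apply (GrpCat.ofHom A'.subtype) x _ ha).symm).trans ?_
    change (QuotientGroup.mk ((GrpCat.ofHom (QuotientGroup.mk' A')) (a : A)) : _) = 1
    have h1 : (GrpCat.ofHom (QuotientGroup.mk' A')) (a : A) = 1 := (QuotientGroup.eq_one_iff _).mpr a.2
    rw [h1]
    rfl

end Groth.Agent.ProComplLib
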